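import Groth.Prelude.Def_W4c6nonredquotmfGoodQuot
import Groth.Agent.GrpAct.Basic
import Groth.Agent.GrpField.Translate
import Groth.Agent.Assoc.Kernel
import Mathlib

/-!
# Good quotients: invariant subsets, orbit closures, rational points
-/

set_option autoImplicit false
universe u

open CategoryTheory CategoryTheory.Limits MonoidalCategory CartesianMonoidalCategory MonObj AlgebraicGeometry
open Groth.Agent.GrpField

namespace Groth.Agent.GoodQuot

variable {k : Type u} [Field k] {G X Y : Over (Spec (CommRingCat.of k))} [GrpObj G]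

theorem surjective {a : AlgGrp.Action G X} {φ : X ⟶ Y} (h : NRQuot.IsGoodQuot a φ) :
    Function.Surjective φ.left.base := by
  have := h.inter PEmpty.{u + 1} PEmpty.elim (fun i => i.elim) (fun i => i.elim)
  rw [Set.iInter_of_empty, Set.iInter_of_empty, Set.image_univ] at this
  exact Set.range_eq_univ.mp this

theorem isInvariantSet_preimage {a : AlgGrp.Action G X} {φ : X ⟶ Y} (h : GIT.IsInvariant a φ)
    (B : Set ↥Y.left) : NRQuot.IsInvariantSet a (φ.left.base ⁻¹' B) := fun p hp => by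
  change φ.left (a.act.left p) ∈ B
  rw [← Scheme.Hom.comp_apply, h.left, Scheme.Hom.comp_apply]
  exact hp

theorem isQuotientMap {a : AlgGrp.Action G X} {φ : X ⟶ Y} (h : NRQuot.IsGoodQuot a φ) :
    Topology.IsQuotientMap φ.left.base := by
  refine Topology.isQuotientMap_iff_isClosed.mpr ⟨surjective h, fun B => ⟨fun hB =>
    hB.preimage φ.left.continuous, fun hB => ?_⟩⟩
  have := h.closed _ hB (isInvariantSet_preimage h.inv B)
  rwa [(surjective h).image_preimage] at this

theorem isInvariantSet_closure (a : AlgGrp.Action G X) {W : Set ↥X.left}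
    (hW : NRQuot.IsInvariantSet a W) : NRQuot.IsInvariantSet a (closure W) := fun p hp => by
  have hopen : IsOpenMap (snd G X).left := (pullback.snd G.hom X.hom).isOpenMap
  have hc : p ∈ closure ((snd G X).left ⁻¹' W) := by
    rw [← hopen.preimage_closure_eq_closure_preimage (snd G X).left.continuous]
    exact hp
  exact map_mem_closure a.act.left.continuous hc hW

theorem isInvariantSet_range_orbitMap (a : AlgGrp.Action G X)
    (x : 𝟙_ (Over (Spec (CommRingCat.of k))) ⟶ X) :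
    NRQuot.IsInvariantSet a (Set.range (a.orbitMap x).left.base) := fun p hp => by
  obtain ⟨T, hT, c, hc⟩ := exists_pt (X := G ⊗ X) p
  obtain ⟨t⟩ := IsPt.nonempty T
  obtain ⟨T', hT', v, g, hg⟩ := exists_lift_pt (a.orbitMap x) (c ≫ snd G X) t (by
    rw [Over.comp_left, Scheme.Hom.comp_apply, hc]; exact hp)
  obtain ⟨t'⟩ := IsPt.nonempty T'
  refine ⟨((v ≫ c ≫ fst G X) * g).left t', ?_⟩
  rw [← hc (v.left t'), ← Scheme.Hom.comp_apply, ← Scheme.Hom.comp_apply, ← Over.comp_left,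
    ← Scheme.Hom.comp_apply, ← Over.comp_left, ← Over.comp_left]
  refine congrArg (fun f : T' ⟶ X => f.left t') ?_
  rw [AlgGrp.Action.orbitMap, GrpAct.comp_smul, Category.comp_id, comp_toUnit_assoc,
    GrpAct.mul_smul]
  rw [AlgGrp.Action.orbitMap, GrpAct.comp_smul, Category.comp_id, comp_toUnit_assoc] at hg
  rw [hg]
  conv_rhs => rw [← lift_comp_fst_snd c, GrpAct.comp_smul]

section Points

variable {Z : Scheme.{u}} (p : Z ⟶ Spec (CommRingCat.of k))

theorem isClosed_section (s : Spec (CommRingCat.of k) ⟶ Z) (hs : s ≫ p = 𝟙 _)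
    (t : Spec (CommRingCat.of k)) : IsClosed ({s t} : Set Z) := by
  have : Subsingleton (Spec (CommRingCat.of k)) := inferInstanceAs (Subsingleton (PrimeSpectrum k))
  rw [(Z.affineCover.isOpenCover_opensRange).isClosed_iff_coe_preimage]
  intro i
  set U := (Z.affineCover.f i).opensRange
  by_cases ht : s t ∈ U
  · have hrange : Set.range s ⊆ Set.range U.ι := by
      rintro _ ⟨t', rfl⟩
      rw [Subsingleton.elim t' t, Scheme.Opens.range_ι]
      exact ht
    let s' := IsOpenImmersion.lift U.ι s hrange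
    have hs' : s' ≫ U.ι = s := IsOpenImmersion.lift_fac _ _ _
    have : IsAffine (U : Scheme.{u}) :=
      isAffineOpen_opensRange (Z.affineCover.f i)
    have : IsClosedImmersion s' :=
      isClosedImmersion_of_comp_eq_id (U.ι ≫ p) s' (by rw [← Category.assoc, hs', hs])
    refine (congrArg IsClosed ?_).mp s'.isClosedEmbedding.isClosed_range
    refine Set.ext fun w => ⟨?_, fun hw => ?_⟩
    · rintro ⟨t', rfl⟩
      change U.ι (s' t') ∈ ({s t} : Set Z)
      rw [← Scheme.Hom.comp_apply, hs', Subsingleton.elim t' t]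
      rfl
    · exact ⟨t, U.ι.isOpenEmbedding.injective
        (by rw [← Scheme.Hom.comp_apply, hs']; exact hw.symm)⟩
  · convert isClosed_empty
    ext w
    simp only [Set.mem_preimage, Set.mem_singleton_iff, Set.mem_empty_iff_false, iff_false]
    exact fun hw => ht (hw ▸ w.2)

theorem section_eq_of_apply_eq (s₁ s₂ : Spec (CommRingCat.of k) ⟶ Z) (h₁ : s₁ ≫ p = 𝟙 _)
    (h₂ : s₂ ≫ p = 𝟙 _) (t : Spec (CommRingCat.of k)) (h : s₁ t = s₂ t) : s₁ = s₂ := by
  have : Subsingleton (Spec (CommRingCat.of k)) := inferInstanceAs (Subsingleton (PrimeSpectrum k))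
  obtain ⟨i, w, hw⟩ := Z.affineCover.exists_eq (s₁ t)
  set U := (Z.affineCover.f i).opensRange
  have hU : s₁ t ∈ U := ⟨w, hw⟩
  have hr : ∀ s : Spec (CommRingCat.of k) ⟶ Z, s t = s₁ t → Set.range s ⊆ Set.range U.ι := by
    rintro s hs _ ⟨t', rfl⟩
    rw [Subsingleton.elim t' t, Scheme.Opens.range_ι, hs]
    exact hU
  have hA : IsAffineOpen U := isAffineOpen_opensRange (Z.affineCover.f i)
  let u : Spec Γ(Z, U) ⟶ Z := hA.fromSpec
  have hr' : ∀ s : Spec (CommRingCat.of k) ⟶ Z, s t = s₁ t → Set.range s ⊆ Set.range u := by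
    intro s hs
    rw [hA.range_fromSpec]
    exact (hr s hs).trans (Scheme.Opens.range_ι U).le
  obtain ⟨f₁, hf₁⟩ := Spec.map_surjective (IsOpenImmersion.lift u s₁ (hr' s₁ rfl))
  obtain ⟨f₂, hf₂⟩ := Spec.map_surjective (IsOpenImmersion.lift u s₂ (hr' s₂ h.symm))
  have e₁ : Spec.map f₁ ≫ u = s₁ := by rw [hf₁, IsOpenImmersion.lift_fac]
  have e₂ : Spec.map f₂ ≫ u = s₂ := by rw [hf₂, IsOpenImmersion.lift_fac]
  suffices f₁ = f₂ by rw [← e₁, ← e₂, this]
  obtain ⟨g, hg⟩ := Spec.map_surjective (u ≫ p)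
  have hg₁ : g ≫ f₁ = 𝟙 _ := Spec.map_injective (by rw [Spec.map_comp, Spec.map_id, hg, ← Category.assoc, e₁, h₁])
  have hg₂ : g ≫ f₂ = 𝟙 _ := Spec.map_injective (by rw [Spec.map_comp, Spec.map_id, hg, ← Category.assoc, e₂, h₂])
  have hker : RingHom.ker f₁.hom = RingHom.ker f₂.hom := by
    have hz : Spec.map f₁ t = Spec.map f₂ t := u.isOpenEmbedding.injective (by
      rw [← Scheme.Hom.comp_apply, ← Scheme.Hom.comp_apply, e₁, e₂, h])
    have ht : ∀ f : Γ(Z, U) ⟶ CommRingCat.of k, RingHom.ker f.hom = (Spec.map f t).asIdeal := by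
      intro f
      change RingHom.ker f.hom = Ideal.comap f.hom (t : PrimeSpectrum k).asIdeal
      rw [(Ideal.eq_bot_or_top (t : PrimeSpectrum k).asIdeal).resolve_right
        (t : PrimeSpectrum k).isPrime.ne_top]
      rfl
    rw [ht, ht, hz]
  ext a
  have h0 : a - g.hom (f₁.hom a) ∈ RingHom.ker f₁.hom := by
    rw [RingHom.mem_ker, map_sub, ← CommRingCat.comp_apply g f₁, hg₁]
    exact sub_self _
  rw [hker, RingHom.mem_ker, map_sub, ← CommRingCat.comp_apply g f₂, hg₂] at h0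
  exact (sub_eq_zero.mp h0).symm

end Points

theorem exists_point [IsAlgClosed k] [LocallyOfFiniteType X.hom] {z : X.left} (hz : IsClosed {z}) :
    ∃ x : 𝟙_ (Over (Spec (CommRingCat.of k))) ⟶ X, ∀ t, x.left t = z :=
  ⟨Over.homMk (pointOfClosedPoint X.hom z hz) (pointOfClosedPoint_comp X.hom z hz),
    fun t => pointOfClosedPoint_apply X.hom z hz t⟩

theorem pt_eq_of_apply_eq {x₁ x₂ : 𝟙_ (Over (Spec (CommRingCat.of k))) ⟶ X}
    (t : Spec (CommRingCat.of k)) (h : x₁.left t = x₂.left t) : x₁ = x₂ :=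
  Over.OverMorphism.ext (section_eq_of_apply_eq X.hom _ _ (Over.w x₁) (Over.w x₂) t h)

theorem isClosed_pt (x : 𝟙_ (Over (Spec (CommRingCat.of k))) ⟶ X)
    (t : Spec (CommRingCat.of k)) : IsClosed ({x.left t} : Set X.left) :=
  isClosed_section X.hom _ (Over.w x) t

theorem orbit_subset_fibre {a : AlgGrp.Action G X} {φ : X ⟶ Y} (h : GIT.IsInvariant a φ)
    (x : 𝟙_ (Over (Spec (CommRingCat.of k))) ⟶ X) (t : Spec (CommRingCat.of k)) :
    Set.range (a.orbitMap x).left.base ⊆ φ.left.base ⁻¹' {(x ≫ φ).left t} := by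
  rintro _ ⟨g, rfl⟩
  have : Subsingleton (Spec (CommRingCat.of k)) := inferInstanceAs (Subsingleton (PrimeSpectrum k))
  have e : a.orbitMap x ≫ φ = toUnit G ≫ x ≫ φ := by
    rw [AlgGrp.Action.orbitMap, Category.assoc, h, lift_snd_assoc, Category.assoc]
  change φ.left ((a.orbitMap x).left g) = (x ≫ φ).left t
  rw [← Scheme.Hom.comp_apply, ← Over.comp_left, e, Over.comp_left, Scheme.Hom.comp_apply,
    show (toUnit G).left g = t from this.elim _ _]

theorem mem_orbit (a : AlgGrp.Action G X) (x : 𝟙_ (Over (Spec (CommRingCat.of k))) ⟶ X)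
    (t : Spec (CommRingCat.of k)) : x.left t ∈ Set.range (a.orbitMap x).left.base :=
  ⟨η[G].left t, by
    have e : η[G] ≫ a.orbitMap x = x := by
      rw [AlgGrp.Action.orbitMap, GrpAct.comp_smul, Category.comp_id,
        comp_toUnit_assoc, toUnit_unique (toUnit (𝟙_ _)) (𝟙 _), Category.id_comp]
      have h1 := GrpAct.one_smul a x
      rwa [toUnit_unique (toUnit (𝟙_ _)) (𝟙 _), Category.id_comp] at h1
    change (a.orbitMap x).left (η[G].left t) = x.left t
    rw [← Scheme.Hom.comp_apply, ← Over.comp_left, e]⟩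

theorem closure_orbit_inter_nonempty_iff {a : AlgGrp.Action G X} {φ : X ⟶ Y}
    (h : NRQuot.IsGoodQuot a φ) (x₁ x₂ : 𝟙_ (Over (Spec (CommRingCat.of k))) ⟶ X) :
    (closure (Set.range (a.orbitMap x₁).left.base) ∩
      closure (Set.range (a.orbitMap x₂).left.base)).Nonempty ↔ x₁ ≫ φ = x₂ ≫ φ := by
  have t : Spec (CommRingCat.of k) := IsLocalRing.closedPoint k
  have hsub : ∀ x : 𝟙_ (Over (Spec (CommRingCat.of k))) ⟶ X,
      closure (Set.range (a.orbitMap x).left.base) ⊆ φ.left.base ⁻¹' {(x ≫ φ).left t} := fun x =>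
    closure_minimal (orbit_subset_fibre h.inv x t) ((isClosed_pt _ t).preimage φ.left.continuous)
  constructor
  · rintro ⟨z, hz₁, hz₂⟩
    exact pt_eq_of_apply_eq t ((hsub x₁ hz₁).symm.trans (hsub x₂ hz₂))
  · intro he
    let W : ULift.{u} Bool → Set ↥X.left := fun b =>
      closure (Set.range (a.orbitMap (bif b.down then x₁ else x₂)).left.base)
    have hi := h.inter _ W (fun _ => isClosed_closure)
      (fun _ => isInvariantSet_closure a (isInvariantSet_range_orbitMap a _))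
    have hy : (x₁ ≫ φ).left t ∈ ⋂ b, φ.left.base '' W b := by
      refine Set.mem_iInter.mpr fun b => ?_
      rcases b with ⟨_ | _⟩
      · rw [he]
        exact ⟨_, subset_closure (mem_orbit a x₂ t), (Scheme.Hom.comp_apply x₂.left φ.left t).symm⟩
      · exact ⟨_, subset_closure (mem_orbit a x₁ t), (Scheme.Hom.comp_apply x₁.left φ.left t).symm⟩
    rw [← hi] at hy
    obtain ⟨z, hz, -⟩ := hy
    exact ⟨z, Set.mem_iInter.mp hz ⟨true⟩, Set.mem_iInter.mp hz ⟨false⟩⟩

theorem exists_translate [IsAlgClosed k] [LocallyOfFiniteType G.hom] [LocallyOfFiniteType X.hom]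
    {a : AlgGrp.Action G X} {φ : X ⟶ Y} (h : NRQuot.IsGoodQuot a φ)
    (x₁ x₂ : 𝟙_ (Over (Spec (CommRingCat.of k))) ⟶ X)
    (hc₁ : IsClosed (Set.range (a.orbitMap x₁).left.base))
    (hc₂ : IsClosed (Set.range (a.orbitMap x₂).left.base)) (hφ : x₁ ≫ φ = x₂ ≫ φ) :
    ∃ g : 𝟙_ (Over (Spec (CommRingCat.of k))) ⟶ G, lift g x₁ ≫ a.act = x₂ := by
  have t : Spec (CommRingCat.of k) := IsLocalRing.closedPoint k
  have := LocallyOfFiniteType.jacobsonSpace X.hom
  have := LocallyOfFiniteType.jacobsonSpace G.hom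
  obtain ⟨z, hz⟩ := (closure_orbit_inter_nonempty_iff h x₁ x₂).mpr hφ
  rw [hc₁.closure_eq, hc₂.closure_eq] at hz
  obtain ⟨z', ⟨hz₁, hz₂⟩, hzc⟩ :=
    nonempty_inter_closedPoints ⟨z, hz⟩ (hc₁.inter hc₂).isLocallyClosed
  have key : ∀ x : 𝟙_ (Over (Spec (CommRingCat.of k))) ⟶ X, z' ∈ Set.range (a.orbitMap x).left.base →
      ∃ g : 𝟙_ (Over (Spec (CommRingCat.of k))) ⟶ G, ∀ t', (lift g x ≫ a.act).left t' = z' := by
    intro x hx
    obtain ⟨q, hq, hqc⟩ := nonempty_inter_closedPoints (Z := (a.orbitMap x).left ⁻¹' {z'})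
      (by obtain ⟨q, hq⟩ := hx; exact ⟨q, hq⟩)
      ((mem_closedPoints_iff.mp hzc).preimage (a.orbitMap x).left.continuous).isLocallyClosed
    obtain ⟨g, hg⟩ := exists_point (X := G) hqc
    refine ⟨g, fun t' => ?_⟩
    have e : g ≫ a.orbitMap x = lift g x ≫ a.act := by
      rw [AlgGrp.Action.orbitMap, GrpAct.comp_smul, Category.comp_id, comp_toUnit_assoc,
        toUnit_unique (toUnit (𝟙_ _)) (𝟙 _), Category.id_comp]
    rw [← e, Over.comp_left, Scheme.Hom.comp_apply, hg]
    exact hq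
  obtain ⟨g₁, hg₁⟩ := key x₁ hz₁
  obtain ⟨g₂, hg₂⟩ := key x₂ hz₂
  refine ⟨g₂⁻¹ * g₁, ?_⟩
  rw [GrpAct.mul_smul, pt_eq_of_apply_eq t ((hg₁ t).trans (hg₂ t).symm), ← GrpAct.mul_smul,
    inv_mul_cancel, GrpAct.one_smul']

end Groth.Agent.GoodQuot
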