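import Groth.Agent.GoodQuot.Basic

/-!
# Restricting a good quotient to an open subset of the quotient
-/

set_option autoImplicit false
set_option backward.isDefEq.respectTransparency false
universe u

open CategoryTheory CategoryTheory.Limits MonoidalCategory CartesianMonoidalCategory MonObj AlgebraicGeometry
open Groth.Agent.GrpField

namespace Groth.Agent.GoodQuot

variable {k : Type u} [Field k] {G X Y X' Y' : Over (Spec (CommRingCat.of k))} [GrpObj G]
variable {a : AlgGrp.Action G X} {a' : AlgGrp.Action G X'} {j : X' ⟶ X}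

omit [GrpObj G] in
/-- A preimage of a point of `G ⊗ X` whose projection comes from `X'`. -/
theorem exists_preimage_whiskerLeft (p : ↥(G ⊗ X).left) (w : X'.left)
    (h : (snd G X).left p = j.left w) :
    ∃ q : ↥(G ⊗ X').left, (G ◁ j).left q = p ∧ (snd G X').left q = w := by
  obtain ⟨q, h1, h2⟩ := Scheme.exists_preimage_of_isPullback
    (Assoc.isPullback_whiskerLeft (Z := G) j) w p h.symm
  exact ⟨q, h2, h1⟩

theorem isInvariantSet_image [IsOpenImmersion j.left] (haj : a'.act ≫ j = (G ◁ j) ≫ a.act)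
    {W : Set ↥X'.left} (hW : NRQuot.IsInvariantSet a' W) :
    NRQuot.IsInvariantSet a (j.left.base '' W) := by
  rintro p ⟨w, hw, hwp⟩
  obtain ⟨q, rfl, hq⟩ := exists_preimage_whiskerLeft (j := j) p w hwp.symm
  refine ⟨a'.act.left q, hW q (hq.symm ▸ hw), ?_⟩
  rw [← Scheme.Hom.comp_apply, ← Scheme.Hom.comp_apply, ← Over.comp_left, ← Over.comp_left, haj]

omit [GrpObj G] in
theorem range_whiskerLeft : Set.range (G ◁ j).left = (snd G X).left ⁻¹' Set.range j.left := by
  ext p
  constructor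
  · rintro ⟨q, rfl⟩
    refine ⟨(snd G X').left q, ?_⟩
    rw [← Scheme.Hom.comp_apply, ← Scheme.Hom.comp_apply, ← Over.comp_left, ← Over.comp_left,
      whiskerLeft_snd]
  · rintro ⟨w, hw⟩
    obtain ⟨q, hq, -⟩ := exists_preimage_whiskerLeft (j := j) p w hw.symm
    exact ⟨q, hq⟩

omit [GrpObj G] in
theorem isOpenImmersion_whiskerLeft [IsOpenImmersion j.left] : IsOpenImmersion (G ◁ j).left :=
  MorphismProperty.of_isPullback (P := @IsOpenImmersion) (Assoc.isPullback_whiskerLeft (Z := G) j) ‹_›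

variable {φ : X ⟶ Y} {φ' : X' ⟶ Y'} (i : Y'.left ⟶ Y.left)

/-- Invariance of sections is insensitive to restriction along an equivariant open immersion. -/
theorem isInvSection_iff [IsOpenImmersion j.left] (haj : a'.act ≫ j = (G ◁ j) ≫ a.act)
    (U : Y.left.Opens) (U' : Y'.left.Opens)
    (hU : φ.left ⁻¹ᵁ U ≤ j.left.opensRange)
    (hU' : φ'.left ⁻¹ᵁ U' = j.left ⁻¹ᵁ (φ.left ⁻¹ᵁ U)) (f : Γ(X.left, φ.left ⁻¹ᵁ U)) :
    GIT.IsInvSection a' φ' U' (j.left.appLE (φ.left ⁻¹ᵁ U) (φ'.left ⁻¹ᵁ U') hU'.le f) ↔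
      GIT.IsInvSection a φ U f := by
  have e₁ : a'.act.left ≫ j.left = (G ◁ j).left ≫ a.act.left := by
    rw [← Over.comp_left, ← Over.comp_left, haj]
  have e₂ : (snd G X').left ≫ j.left = (G ◁ j).left ≫ (snd G X).left := by
    rw [← Over.comp_left, ← Over.comp_left, whiskerLeft_snd]
  have hΩ : a'.act.left ⁻¹ᵁ (φ'.left ⁻¹ᵁ U') ⊓ (snd G X').left ⁻¹ᵁ (φ'.left ⁻¹ᵁ U') =
      (G ◁ j).left ⁻¹ᵁ (a.act.left ⁻¹ᵁ (φ.left ⁻¹ᵁ U) ⊓ (snd G X).left ⁻¹ᵁ (φ.left ⁻¹ᵁ U)) := by
    simp only [hU', ← Scheme.Hom.comp_preimage, Scheme.Hom.preimage_inf]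
    simp only [← Category.assoc, e₁, e₂]
  have key : ∀ (u' : (G ⊗ X').left ⟶ X'.left) (v : (G ⊗ X).left ⟶ X.left)
      (Ω : (G ⊗ X).left.Opens) (Ω' : (G ⊗ X').left.Opens) (hΩ : Ω' ≤ (G ◁ j).left ⁻¹ᵁ Ω)
      (h' : Ω' ≤ u' ⁻¹ᵁ (φ'.left ⁻¹ᵁ U')) (h : Ω ≤ v ⁻¹ᵁ (φ.left ⁻¹ᵁ U)),
      u' ≫ j.left = (G ◁ j).left ≫ v →
      u'.appLE _ Ω' h' (j.left.appLE (φ.left ⁻¹ᵁ U) (φ'.left ⁻¹ᵁ U') hU'.le f) =
        (G ◁ j).left.appLE Ω Ω' hΩ (v.appLE _ Ω h f) := by
    intro u' v Ω Ω' hΩ h' h e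
    rw [← CommRingCat.comp_apply, ← CommRingCat.comp_apply,
      Scheme.Hom.appLE_comp_appLE, Scheme.Hom.appLE_comp_appLE]
    simp only [e]
  unfold GIT.IsInvSection
  refine Iff.trans (Eq.congr (key a'.act.left a.act.left _ _ hΩ.le inf_le_left inf_le_left e₁)
    (key (snd G X').left (snd G X).left _ _ hΩ.le inf_le_right inf_le_right e₂)) ?_
  refine ⟨fun h => ?_, fun h => congrArg _ h⟩
  have hoi := isOpenImmersion_whiskerLeft (G := G) (j := j)
  have hle : a.act.left ⁻¹ᵁ (φ.left ⁻¹ᵁ U) ⊓ (snd G X).left ⁻¹ᵁ (φ.left ⁻¹ᵁ U) ≤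
      (G ◁ j).left.opensRange := by
    intro p hp
    change p ∈ Set.range (G ◁ j).left
    rw [range_whiskerLeft]
    exact hU hp.2
  have hiso : IsIso ((G ◁ j).left.appLE _ _ hΩ.le) := by
    have := Scheme.Hom.isIso_app (G ◁ j).left _ hle
    unfold Scheme.Hom.appLE
    have : IsIso ((G ⊗ X').left.presheaf.map (homOfLE hΩ.le).op) := by
      have : homOfLE hΩ.le = eqToHom hΩ := Subsingleton.elim _ _
      rw [this]
      infer_instance
    infer_instance
  exact (ConcreteCategory.bijective_of_isIso ((G ◁ j).left.appLE _ _ hΩ.le)).1 h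

theorem isGoodQuot_restrict [IsOpenImmersion j.left] [IsOpenImmersion i]
    (h : NRQuot.IsGoodQuot a φ) (haj : a'.act ≫ j = (G ◁ j) ≫ a.act)
    (hsq : φ'.left ≫ i = j.left ≫ φ.left)
    (hrange : Set.range j.left = φ.left ⁻¹' Set.range i) : NRQuot.IsGoodQuot a' φ' := by
  have hpb : IsPullback j.left φ'.left φ.left i :=
    (IsOpenImmersion.isPullback φ'.left j.left i φ.left hsq.symm
      (TopologicalSpace.Opens.ext hrange.symm)).flip
  have hinv : GIT.IsInvariant a' φ' := by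
    refine Over.OverMorphism.ext ?_
    have e₁ : a'.act.left ≫ j.left = (G ◁ j).left ≫ a.act.left := by
      rw [← Over.comp_left, ← Over.comp_left, haj]
    have e₂ : (snd G X').left ≫ j.left = (G ◁ j).left ≫ (snd G X).left := by
      rw [← Over.comp_left, ← Over.comp_left, whiskerLeft_snd]
    rw [← cancel_mono i, Over.comp_left, Over.comp_left, Category.assoc, Category.assoc, hsq,
      ← Category.assoc, ← Category.assoc, e₁, e₂, Category.assoc, Category.assoc, h.inv.left]
  have himg : ∀ W : Set ↥X'.left, IsClosed W → NRQuot.IsInvariantSet a' W →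
      i.base ⁻¹' (φ.left.base '' closure (j.left.base '' W)) = φ'.left.base '' W := by
    intro W hW hWi
    ext y
    constructor
    · rintro ⟨x, hx, hxy⟩
      obtain ⟨x', rfl⟩ : x ∈ Set.range j.left := hrange.symm ▸ (⟨y, hxy.symm⟩ : φ.left x ∈ Set.range i)
      refine ⟨x', ?_, ?_⟩
      · rwa [← Set.mem_preimage, j.left.isOpenEmbedding.isOpenMap.preimage_closure_eq_closure_preimage
          j.left.continuous, Set.preimage_image_eq _ j.left.isOpenEmbedding.injective,
          hW.closure_eq] at hx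
      · refine i.isOpenEmbedding.injective ?_
        rw [← Scheme.Hom.comp_apply, hsq, Scheme.Hom.comp_apply]
        exact hxy
    · rintro ⟨x', hx', rfl⟩
      refine ⟨j.left x', subset_closure ⟨x', hx', rfl⟩, ?_⟩
      rw [← Scheme.Hom.comp_apply, ← Scheme.Hom.comp_apply, hsq]
  refine ⟨MorphismProperty.of_isPullback (P := @IsAffineHom) hpb h.affine, hinv, fun U' => ?_,
    fun W hW hWi => ?_, fun J W hW hWi => ?_⟩
  · have hU : φ.left ⁻¹ᵁ (i ''ᵁ U') ≤ j.left.opensRange := by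
      rintro x ⟨y, -, hy⟩
      change x ∈ Set.range j.left
      rw [hrange]
      exact ⟨y, hy⟩
    have hU' : φ'.left ⁻¹ᵁ U' = j.left ⁻¹ᵁ (φ.left ⁻¹ᵁ (i ''ᵁ U')) := by
      rw [← Scheme.Hom.comp_preimage, ← hsq, Scheme.Hom.comp_preimage, Scheme.Hom.preimage_image_eq]
    set r := j.left.appLE (φ.left ⁻¹ᵁ (i ''ᵁ U')) (φ'.left ⁻¹ᵁ U') hU'.le
    set c := i.appLE (i ''ᵁ U') U' (Scheme.Hom.preimage_image_eq i U').ge
    have hr : IsIso r := by
      have := Scheme.Hom.isIso_app j.left _ hU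
      simp only [r, Scheme.Hom.appLE]
      have : IsIso (X'.left.presheaf.map (homOfLE hU'.le).op) := by
        have : homOfLE hU'.le = eqToHom hU' := Subsingleton.elim _ _
        rw [this]
        infer_instance
      infer_instance
    have hc : IsIso c := by
      have := Scheme.Hom.isIso_app i (i ''ᵁ U') (Scheme.Hom.image_le_opensRange i U')
      simp only [c, Scheme.Hom.appLE]
      have : IsIso (Y'.left.presheaf.map (homOfLE (Scheme.Hom.preimage_image_eq i U').ge).op) := by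
        have : homOfLE (Scheme.Hom.preimage_image_eq i U').ge =
            eqToHom (Scheme.Hom.preimage_image_eq i U').symm := Subsingleton.elim _ _
        rw [this]
        infer_instance
      infer_instance
    have hcomm : ∀ b, φ'.left.app U' (c b) = r (φ.left.app (i ''ᵁ U') b) := fun b => by
      simp only [c, r, Scheme.Hom.app_eq_appLE, ← CommRingCat.comp_apply,
        Scheme.Hom.appLE_comp_appLE, hsq]
    obtain ⟨hinj, hran⟩ := h.sections (i ''ᵁ U')
    have cb := ConcreteCategory.bijective_of_isIso c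
    have rb := ConcreteCategory.bijective_of_isIso r
    refine ⟨fun s t hst => ?_, Set.ext fun s => ⟨?_, fun hs => ?_⟩⟩
    · obtain ⟨s, rfl⟩ := cb.2 s
      obtain ⟨t, rfl⟩ := cb.2 t
      rw [hcomm, hcomm] at hst
      rw [hinj (rb.1 hst)]
    · rintro ⟨s, rfl⟩
      obtain ⟨s, rfl⟩ := cb.2 s
      rw [hcomm]
      exact (isInvSection_iff haj _ _ hU hU' _).mpr (hran.le ⟨s, rfl⟩)
    · obtain ⟨f, rfl⟩ := rb.2 s
      obtain ⟨b, hb⟩ := hran.ge ((isInvSection_iff haj _ _ hU hU' f).mp hs)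
      exact ⟨c b, by rw [hcomm, hb]⟩
  · rw [← himg W hW hWi]
    exact (h.closed _ isClosed_closure (isInvariantSet_closure a (isInvariantSet_image haj hWi))).preimage
      i.continuous
  · refine Set.Subset.antisymm (Set.image_iInter_subset W φ'.left.base) fun y hy => ?_
    have hi := h.inter J (fun l => closure (j.left.base '' W l)) (fun _ => isClosed_closure)
      (fun l => isInvariantSet_closure a (isInvariantSet_image haj (hWi l)))
    have hy' : i y ∈ ⋂ l, φ.left.base '' closure (j.left.base '' W l) :=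
      Set.mem_iInter.mpr fun l => ((himg (W l) (hW l) (hWi l)).symm ▸ Set.mem_iInter.mp hy l :)
    rw [← hi] at hy'
    obtain ⟨x, hx, hxy⟩ := hy'
    obtain ⟨x', rfl⟩ : x ∈ Set.range j.left := hrange.symm ▸ (⟨y, hxy.symm⟩ : φ.left x ∈ Set.range i)
    refine ⟨x', Set.mem_iInter.mpr fun l => ?_, ?_⟩
    · have := Set.mem_iInter.mp hx l
      rwa [← Set.mem_preimage, j.left.isOpenEmbedding.isOpenMap.preimage_closure_eq_closure_preimage
        j.left.continuous, Set.preimage_image_eq _ j.left.isOpenEmbedding.injective,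
        (hW l).closure_eq] at this
    · refine i.isOpenEmbedding.injective ?_
      rw [← Scheme.Hom.comp_apply, hsq, Scheme.Hom.comp_apply]
      exact hxy

end Groth.Agent.GoodQuot
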