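import Groth.Agent.GrpAct.Basic
import Groth.Prelude.Def_W4bk4git07Quot
import Mathlib

/-!
# Geometric quotients by universally open groups are universally open
-/

set_option autoImplicit false
universe u

open CategoryTheory CategoryTheory.Limits MonoidalCategory CartesianMonoidalCategory MonObj AlgebraicGeometry

namespace Groth.Agent.GoodQuot

variable {S : Scheme.{u}} {G X Y : Over S} [GrpObj G] (a : AlgGrp.Action G X)

/-- The shear automorphism `(g, x) ↦ (g, g x)`. -/
noncomputable def shearIso : G ⊗ X ≅ G ⊗ X where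
  hom := lift (fst G X) a.act
  inv := lift (fst G X) (lift (fst G X)⁻¹ (snd G X) ≫ a.act)
  hom_inv_id := by
    apply CartesianMonoidalCategory.hom_ext
    · simp
    · rw [Category.assoc, lift_snd, GrpAct.comp_smul, GrpObj.comp_inv, lift_fst, lift_snd, Category.id_comp]
      have h : lift (fst G X)⁻¹ (lift (fst G X) (snd G X) ≫ a.act) ≫ a.act = snd G X := by
        rw [← GrpAct.mul_smul, inv_mul_cancel, GrpAct.one_smul']
      rwa [lift_fst_snd, Category.id_comp] at h
  inv_hom_id := by
    apply CartesianMonoidalCategory.hom_ext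
    · simp
    · rw [Category.assoc, lift_snd, Category.id_comp]
      conv_lhs => rw [show a.act = lift (fst G X) (snd G X) ≫ a.act by rw [lift_fst_snd, Category.id_comp]]
      rw [GrpAct.comp_smul, lift_fst, lift_snd, lift_fst_snd, Category.id_comp, ← GrpAct.mul_smul,
        mul_inv_cancel, GrpAct.one_smul']

theorem universallyOpen_act [UniversallyOpen G.hom] : UniversallyOpen a.act.left := by
  have e : a.act = (shearIso a).hom ≫ snd G X := by simp [shearIso]
  rw [e, Over.comp_left]
  have : IsIso (shearIso a).hom.left := ((Over.forget S).mapIso (shearIso a)).isIso_hom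
  have : UniversallyOpen (snd G X).left := MorphismProperty.pullback_snd G.hom X.hom ‹_›
  infer_instance

theorem universallyOpen_of_isGeomQuot [UniversallyOpen G.hom] {φ : X ⟶ Y}
    (h : GIT.IsGeomQuot a φ) : UniversallyOpen φ.left := by
  refine ⟨fun X' Y' pr i₂ f' sq => ?_⟩
  have := universallyOpen_act a
  have hquot := h.subm pr i₂ f' sq
  have sqF : IsPullback pr f' φ.left i₂ := sq.flip
  let p₂ := pullback.snd (snd G X).left pr
  let qG := pullback.fst (snd G X).left pr
  have hc : qG ≫ (snd G X).left = p₂ ≫ pr := pullback.condition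
  let act' : pullback (snd G X).left pr ⟶ X' :=
    sqF.lift (qG ≫ a.act.left) (p₂ ≫ f') (by
      rw [Category.assoc, h.inv.left, reassoc_of% hc, sqF.w, Category.assoc])
  have hact₁ : act' ≫ pr = qG ≫ a.act.left := sqF.lift_fst _ _ _
  have hact₂ : act' ≫ f' = p₂ ≫ f' := sqF.lift_snd _ _ _
  have hpb : IsPullback qG act' a.act.left pr := by
    have outer : IsPullback qG (p₂ ≫ f') ((snd G X).left ≫ φ.left) i₂ :=
      (IsPullback.of_hasPullback (snd G X).left pr).paste_vert sqF
    rw [← h.inv.left, ← hact₂] at outer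
    exact IsPullback.of_bot outer hact₁.symm sqF
  have : UniversallyOpen act' := MorphismProperty.of_isPullback (P := @UniversallyOpen) hpb ‹_›
  intro W hW
  rw [← hquot.isOpen_preimage]
  have e : f' ⁻¹' (f' '' W) = act' '' (p₂ ⁻¹' W) := by
    ext z
    constructor
    · rintro ⟨w, hw, hwz⟩
      obtain ⟨v, hv₁, hv₂⟩ := Scheme.Pullback.exists_preimage_pullback (f := f') (g := f') z w hwz.symm
      let T := Spec ((pullback f' f').residueField v)
      let ζ : T ⟶ pullback f' f' := (pullback f' f').fromSpecResidueField v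
      have hinvw : (ζ ≫ pullback.fst f' f' ≫ pr) ≫ φ.left = (ζ ≫ pullback.snd f' f' ≫ pr) ≫ φ.left := by
        simp only [Category.assoc, sqF.w]
        rw [pullback.condition_assoc]
      let m : T ⟶ pullback φ.left φ.left := pullback.lift _ _ hinvw
      obtain ⟨q, hq⟩ := h.orbit (m (IsLocalRing.closedPoint _))
      obtain ⟨t, ht₁, -⟩ := Scheme.Pullback.exists_preimage_pullback
        (f := m) (g := GIT.PsiY a φ h.inv) (IsLocalRing.closedPoint _) q hq.symm
      let α := pullback.fst m (GIT.PsiY a φ h.inv)
      let β := pullback.snd m (GIT.PsiY a φ h.inv)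
      have hαβ : α ≫ m = β ≫ GIT.PsiY a φ h.inv := pullback.condition
      have h1 : α ≫ ζ ≫ pullback.fst f' f' ≫ pr = β ≫ a.act.left := by
        have := congrArg (· ≫ pullback.fst φ.left φ.left) hαβ
        simp only [m, GIT.PsiY, Category.assoc, pullback.lift_fst] at this
        exact this
      have h2 : α ≫ ζ ≫ pullback.snd f' f' ≫ pr = β ≫ (snd G X).left := by
        have := congrArg (· ≫ pullback.snd φ.left φ.left) hαβ
        simp only [m, GIT.PsiY, Category.assoc, pullback.lift_snd] at this
        exact this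
      let l : pullback m (GIT.PsiY a φ h.inv) ⟶ pullback (snd G X).left pr :=
        pullback.lift β (α ≫ ζ ≫ pullback.snd f' f') (by
          simp only [Category.assoc]; exact h2.symm)
      have hl₁ : l ≫ qG = β := pullback.lift_fst _ _ _
      have hl₂ : l ≫ p₂ = α ≫ ζ ≫ pullback.snd f' f' := pullback.lift_snd _ _ _
      have hl₃ : l ≫ act' = α ≫ ζ ≫ pullback.fst f' f' := by
        apply sqF.hom_ext
        · rw [Category.assoc, hact₁, reassoc_of% hl₁, ← h1]
          simp only [Category.assoc]
        · rw [Category.assoc, hact₂, reassoc_of% hl₂]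
          simp only [Category.assoc, pullback.condition]
      have hζ : ζ (α t) = v := Scheme.fromSpecResidueField_apply v _
      refine ⟨l t, ?_, ?_⟩
      · show p₂ (l t) ∈ W
        rw [← Scheme.Hom.comp_apply, hl₂, Scheme.Hom.comp_apply, Scheme.Hom.comp_apply, hζ, hv₂]
        exact hw
      · rw [← Scheme.Hom.comp_apply, hl₃, Scheme.Hom.comp_apply, Scheme.Hom.comp_apply, hζ, hv₁]
    · rintro ⟨q, hq, rfl⟩
      exact ⟨p₂ q, hq, by rw [← Scheme.Hom.comp_apply, ← Scheme.Hom.comp_apply, hact₂]⟩
  rw [e]
  exact act'.isOpenMap _ (hW.preimage p₂.continuous)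

end Groth.Agent.GoodQuot
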